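import Mathlib.RingTheory.Unramified.LocalStructure
import Mathlib.RingTheory.Unramified.LocalRing
import Mathlib.RingTheory.EssentialFiniteness
import Mathlib.RingTheory.Localization.AtPrime.Basic

/-!
# Standard étale charts of local algebras essentially of finite type
-/

set_option autoImplicit false
set_option linter.style.haveILetI false
universe u

namespace Groth.Agent.StdEtaleLocH7

variable {A B : Type u} [CommRing A] [CommRing B] [Algebra A B] [IsLocalRing B]

theorem exists_chart [Algebra.EssFiniteType A B] :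
    ∃ (C : Type u) (_ : CommRing C) (_ : Algebra A C) (_ : Algebra C B) (_ : IsScalarTower A C B),
      Algebra.FiniteType A C ∧
      IsLocalization.AtPrime B ((IsLocalRing.maximalIdeal B).comap (algebraMap C B)) := by
  refine ⟨Algebra.EssFiniteType.subalgebra A B, inferInstance, inferInstance, inferInstance,
    inferInstance, inferInstance, ?_⟩
  have h : ((IsLocalRing.maximalIdeal B).comap
      (algebraMap (Algebra.EssFiniteType.subalgebra A B) B)).primeCompl = Algebra.EssFiniteType.submonoid A B := by
    ext x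
    show ¬ (algebraMap _ B x ∈ IsLocalRing.maximalIdeal B) ↔ IsUnit (algebraMap _ B x)
    rw [IsLocalRing.mem_maximalIdeal, mem_nonunits_iff, not_not]
  show IsLocalization _ B
  rw [h]
  infer_instance

variable {C : Type u} [CommRing C] [Algebra A C] [Algebra C B] [IsScalarTower A C B]

/-- If a standard étale algebra surjects onto a chart of `B`, then its local ring surjects onto `B`. -/
theorem exists_localization_surjective
    [IsLocalization.AtPrime B ((IsLocalRing.maximalIdeal B).comap (algebraMap C B))] {f : C}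
    (hf : IsUnit (algebraMap C B f)) (P : StandardEtalePair A)
    (φ : P.Ring →ₐ[A] Localization.Away f) (hφ : Function.Surjective φ) :
    ∃ (𝔮 : Ideal P.Ring) (_ : 𝔮.IsPrime) (ψ : Localization.AtPrime 𝔮 →ₐ[A] B),
      Function.Surjective ψ ∧ (Function.Injective φ → Function.Injective ψ) := by
  set q := (IsLocalRing.maximalIdeal B).comap (algebraMap C B)
  let gC : Localization.Away f →ₐ[C] B := IsLocalization.liftAlgHom (M := Submonoid.powers f)
    (f := Algebra.ofId C B) (by rintro ⟨_, n, rfl⟩; simpa using hf.pow n)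
  let χ : P.Ring →ₐ[A] B := (gC.restrictScalars A).comp φ
  let 𝔮 := (IsLocalRing.maximalIdeal B).comap χ
  have hu : ∀ t : 𝔮.primeCompl, IsUnit (χ t) := fun t => by
    have := t.2
    change ¬ (χ t.1 ∈ IsLocalRing.maximalIdeal B) at this
    rwa [IsLocalRing.mem_maximalIdeal, mem_nonunits_iff, not_not] at this
  let ψ : Localization.AtPrime 𝔮 →ₐ[A] B := IsLocalization.liftAlgHom (M := 𝔮.primeCompl) (f := χ) hu
  have hψ : ∀ a, ψ (algebraMap P.Ring _ a) = χ a := fun a => IsLocalization.lift_eq _ a
  have hC : ∀ c : C, ∃ a, χ a = algebraMap C B c := fun c => by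
    obtain ⟨a, ha⟩ := hφ (algebraMap C _ c)
    exact ⟨a, (congrArg gC ha).trans (gC.commutes c)⟩
  refine ⟨𝔮, inferInstance, ψ, fun b => ?_, fun hinj => ?_⟩
  · obtain ⟨c, s, rfl⟩ := IsLocalization.exists_mk'_eq q.primeCompl b
    obtain ⟨a, ha⟩ := hC c
    obtain ⟨t, ht⟩ := hC (s : C)
    have hsu : IsUnit (algebraMap C B s) := IsLocalization.map_units B s
    have ht' : t ∈ 𝔮.primeCompl := by
      show ¬ (χ t ∈ IsLocalRing.maximalIdeal B)
      rw [ht, IsLocalRing.mem_maximalIdeal, mem_nonunits_iff, not_not]; exact hsu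
    refine ⟨IsLocalization.mk' _ a ⟨t, ht'⟩, hsu.mul_right_cancel ?_⟩
    rw [IsLocalization.mk'_spec, ← ha, ← ht, ← hψ t, ← map_mul,
      show IsLocalization.mk' (Localization.AtPrime 𝔮) a ⟨t, ht'⟩ * algebraMap P.Ring _ t = algebraMap P.Ring _ a from
        IsLocalization.mk'_spec _ a ⟨t, ht'⟩, hψ]
  · refine (injective_iff_map_eq_zero ψ).2 fun x hx => ?_
    obtain ⟨a, t, rfl⟩ := IsLocalization.exists_mk'_eq 𝔮.primeCompl x
    have ha : χ a = 0 := by
      rw [← hψ, ← IsLocalization.mk'_spec (Localization.AtPrime 𝔮) a t, map_mul, hx, zero_mul]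
    obtain ⟨c, ⟨_, n, rfl⟩, hc⟩ := IsLocalization.exists_mk'_eq (Submonoid.powers f) (φ a)
    have h1 : algebraMap C B c = 0 := by
      rw [← gC.commutes, ← IsLocalization.mk'_spec (Localization.Away f) c (⟨f ^ n, n, rfl⟩ : Submonoid.powers f), hc, map_mul,
        show gC (φ a) = 0 from ha, zero_mul]
    obtain ⟨s, hs⟩ := (IsLocalization.map_eq_zero_iff q.primeCompl B c).1 h1
    obtain ⟨v, hv⟩ := hφ (algebraMap C _ (s : C))
    have h2 : v * a = 0 := by
      apply hinj
      rw [map_mul, map_zero, hv]
      apply ((IsLocalization.map_units (Localization.Away f) (⟨f ^ n, n, rfl⟩ : Submonoid.powers f))).mul_left_cancel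
      rw [mul_zero, mul_left_comm, mul_comm (algebraMap C (Localization.Away f) (f ^ n)) (φ a), ← hc,
        IsLocalization.mk'_spec, ← map_mul, hs, map_zero]
    have hv' : v ∈ 𝔮.primeCompl := by
      show ¬ (χ v ∈ IsLocalRing.maximalIdeal B)
      rw [show χ v = algebraMap C B s from (congrArg gC hv).trans (gC.commutes _),
        IsLocalRing.mem_maximalIdeal, mem_nonunits_iff, not_not]
      exact IsLocalization.map_units B s
    exact (IsLocalization.mk'_eq_zero_iff a t).2 ⟨⟨v, hv'⟩, h2⟩

end Groth.Agent.StdEtaleLocH7
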